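import Groth.Agent.Depth.Local
import Groth.Agent.ExtVanish.Basic
import Groth.Agent.RegLoc.Homological
import Mathlib.Algebra.Homology.DerivedCategory.Ext.Linear
import Mathlib.LinearAlgebra.FreeModule.Finite.Basic

/-!
# Auslander–Buchsbaum over a Noetherian local ring
-/

set_option autoImplicit false
set_option linter.style.haveILetI false

namespace Groth.Agent.AuslBuchs

open CategoryTheory Abelian IsLocalRing
open Groth.Agent.RegLoc Groth.Agent.RegLoc.PD

universe u

variable {A : Type u} [CommRing A] [IsLocalRing A] [IsNoetherianRing A] {n : ℕ}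

local notation "k" => ModuleCat.of A (A ⧸ maximalIdeal A)

theorem le_depth_free (hd : LocCoh.depth A A = (n : ℕ∞)) (r : ℕ) :
    (n : ℕ∞) ≤ LocCoh.depth A (Fin r → A) := by
  rw [Depth.depth_eq_idealDepth, Depth.le_idealDepth_iff_ext]
  intro i hi
  exact ExtVanish.subsingleton_ext_pi
    ((Depth.le_idealDepth_iff_ext (I := maximalIdeal A) (M := A) n).1 hd.ge i hi) r

theorem smul_ext_eq_zero {a : A} (ha : a ∈ maximalIdeal A) (X : ModuleCat.{u} A) (i : ℕ)
    (x : Ext k X i) : a • x = 0 := by
  have h : a • x = (Ext.mk₀ (a • 𝟙 _)).comp x (zero_add i) := by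
    rw [Ext.mk₀_smul, Ext.smul_comp, Ext.mk₀_id_comp]
  rw [h, show a • 𝟙 k = 0 from
    ModuleCat.hom_ext (LinearMap.ext fun y => Depth.smul_quotient_eq_zero ha y), Ext.mk₀_zero,
    Ext.zero_comp]

/-- A map with entries in the maximal ideal, out of a free module, kills `Ext(k, -)`. -/
theorem comp_eq_zero {K : Type u} [AddCommGroup K] [Module A K] [Module.Free A K] [Module.Finite A K]
    {r : ℕ} (f : K →ₗ[A] (Fin r → A)) (hf : ∀ v i, f v i ∈ maximalIdeal A) (i : ℕ)
    (x : Ext k (ModuleCat.of A K) i) :
    x.comp (Ext.mk₀ (ModuleCat.ofHom f)) (add_zero i) = 0 := by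
  classical
  let b := Module.Free.chooseBasis A K
  have hdec : ModuleCat.ofHom f = ∑ j, ∑ t, (f (b t) j) •
      ModuleCat.ofHom ((LinearMap.single A (fun _ : Fin r => A) j).comp (b.coord t)) := by
    refine ModuleCat.hom_ext (b.ext fun s => ?_)
    rw [ModuleCat.hom_ofHom, ModuleCat.hom_sum, LinearMap.sum_apply]
    simp only [ModuleCat.hom_sum, ModuleCat.hom_smul, ModuleCat.hom_ofHom, LinearMap.sum_apply,
      LinearMap.smul_apply, LinearMap.comp_apply, Module.Basis.coord_apply, Module.Basis.repr_self]
    funext j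
    simp [Finset.sum_apply, Pi.single_apply, Finsupp.single_apply]
  rw [hdec, Ext.mk₀_sum, Ext.comp_sum]
  refine Finset.sum_eq_zero fun j _ => ?_
  rw [Ext.mk₀_sum, Ext.comp_sum]
  refine Finset.sum_eq_zero fun t _ => ?_
  rw [Ext.mk₀_smul, Ext.comp_smul]
  exact smul_ext_eq_zero (hf _ _) _ _ _

/-- A nonzero finite free module has the depth of the ring. -/
theorem nontrivial_ext_free (hd : LocCoh.depth A A = (n : ℕ∞)) (K : Type u) [AddCommGroup K]
    [Module A K] [Module.Free A K] [Module.Finite A K] [Nontrivial K] :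
    Nontrivial (Ext k (ModuleCat.of A K) n) := by
  let b := Module.Free.chooseBasis A K
  obtain ⟨t⟩ : Nonempty (Module.Free.ChooseBasisIndex A K) := inferInstance
  obtain ⟨-, hnt⟩ := (Depth.idealDepth_eq_iff_ext (I := maximalIdeal A) (M := A) n).1 hd
  obtain ⟨x, hx⟩ := exists_ne (0 : Ext k (ModuleCat.of A A) n)
  let i : ModuleCat.of A A ⟶ ModuleCat.of A K := ModuleCat.ofHom (LinearMap.toSpanSingleton A K (b t))
  let p : ModuleCat.of A K ⟶ ModuleCat.of A A := ModuleCat.ofHom (b.coord t)
  have hip : i ≫ p = 𝟙 _ := by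
    refine ModuleCat.hom_ext (LinearMap.ext_ring ?_)
    simp [i, p]
  refine nontrivial_of_ne (x.comp (Ext.mk₀ i) (add_zero n)) 0 fun h => hx ?_
  have := congrArg (fun y => y.comp (Ext.mk₀ p) (add_zero n)) h
  simpa [hip] using this

/-- A finite module of finite projective dimension and maximal depth is projective. -/
theorem projective_of_le_depth (hd : LocCoh.depth A A = (n : ℕ∞)) : ∀ (e : ℕ) (M : Type u)
    [AddCommGroup M] [Module A M] [Module.Finite A M], HasProjectiveDimensionLE (ModuleCat.of A M) e →
    (n : ℕ∞) ≤ LocCoh.depth A M → HasProjectiveDimensionLE (ModuleCat.of A M) 0 := by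
  intro e
  induction e with
  | zero => intro M _ _ _ h _; exact h
  | succ e ih =>
    intro M _ _ _ h hM
    obtain ⟨r, f, hf, hmin⟩ := Homological.exists_minimal_cover (R := A) M
    haveI : Module.Finite A (LinearMap.ker f) := Module.Finite.iff_fg.2 (IsNoetherian.noetherian _)
    rw [pd_shift f hf] at h
    have hdK : (n : ℕ∞) ≤ LocCoh.depth A (LinearMap.ker f) :=
      le_trans (le_min (le_depth_free hd r) (le_trans hM le_self_add))
        (Depth.min_le_idealDepth_X₁ (I := maximalIdeal A) (Submodule.subtype_injective _) hf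
          (LinearMap.exact_subtype_ker_map f))
    have hproj : Module.Projective A (LinearMap.ker f) := (pd_zero_iff _).1 (ih _ h hdK)
    haveI : Module.Free A (LinearMap.ker f) := Module.free_of_flat_of_isLocalRing
    rcases subsingleton_or_nontrivial (LinearMap.ker f) with hs | hs
    · rw [pd_zero_iff]
      exact Module.Projective.of_equiv (LinearEquiv.ofBijective f
        ⟨LinearMap.ker_eq_bot.1 (Submodule.eq_bot_of_subsingleton), hf⟩)
    exfalso
    haveI := nontrivial_ext_free hd (LinearMap.ker f)
    obtain ⟨x, hx⟩ := exists_ne (0 : Ext k (ModuleCat.of A (LinearMap.ker f)) n)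
    have hcomp := comp_eq_zero (LinearMap.ker f).subtype (fun v i => hmin _ v.2 i) n x
    rcases Nat.eq_zero_or_pos n with h0 | hpos
    · subst h0
      have : Mono (ModuleCat.ofHom (LinearMap.ker f).subtype) :=
        (ModuleCat.mono_iff_injective _).2 (Submodule.subtype_injective _)
      exact hx (Ext.postcomp_mk₀_injective_of_mono _ (ModuleCat.ofHom (LinearMap.ker f).subtype)
        (show x.comp _ (add_zero 0) = (0 : Ext k _ 0).comp _ (add_zero 0) by rw [hcomp, Ext.zero_comp]))
    obtain ⟨x₃, hx₃⟩ := Ext.covariant_sequence_exact₁ _ (LinearMap.shortExact_shortComplexKer hf) x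
      hcomp (n₀ := n - 1) (by omega)
    have := (Depth.le_idealDepth_iff_ext n).1 hM (n - 1) (by omega)
    refine hx ?_
    rw [← hx₃, Subsingleton.elim (α := Ext k (ModuleCat.of A M) (n - 1)) x₃ 0]
    exact Ext.zero_comp _ _ (LinearMap.shortExact_shortComplexKer hf).extClass _ _

/-- Auslander–Buchsbaum: for finite projective dimension, `depth M ≥ n - q` iff `pd M ≤ q`. -/
theorem le_depth_iff (hd : LocCoh.depth A A = (n : ℕ∞)) : ∀ (q e : ℕ) (M : Type u) [AddCommGroup M]
    [Module A M] [Module.Finite A M], HasProjectiveDimensionLE (ModuleCat.of A M) e →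
    (((n - q : ℕ) : ℕ∞) ≤ LocCoh.depth A M ↔ HasProjectiveDimensionLE (ModuleCat.of A M) q) := by
  intro q
  induction q with
  | zero =>
    intro e M _ _ _ he
    refine ⟨fun h => projective_of_le_depth hd e M he h, fun h => ?_⟩
    haveI := (pd_zero_iff M).1 h
    haveI : Module.Free A M := Module.free_of_flat_of_isLocalRing
    rw [Depth.depth_eq_idealDepth, Depth.idealDepth_congr (Module.Free.chooseBasis A M).equivFun]
    rw [Nat.sub_zero]
    have := le_depth_free hd (Fintype.card (Module.Free.ChooseBasisIndex A M))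
    rw [Depth.depth_eq_idealDepth] at this
    rwa [Depth.idealDepth_congr (LinearEquiv.funCongrLeft A A (Fintype.equivFin _))] at this
  | succ q ih =>
    intro e M _ _ _ he
    obtain ⟨r, f, hf, -⟩ := Homological.exists_minimal_cover (R := A) M
    haveI : Module.Finite A (LinearMap.ker f) := Module.Finite.iff_fg.2 (IsNoetherian.noetherian _)
    have he' : HasProjectiveDimensionLE (ModuleCat.of A (LinearMap.ker f)) e := by
      rw [← pd_shift f hf]
      exact hasProjectiveDimensionLT_of_ge _ (e + 1) (e + 1 + 1) (by omega)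
    rw [pd_shift f hf, ← ih e _ he']
    constructor
    · intro h
      refine le_trans (le_min ?_ ?_) (Depth.min_le_idealDepth_X₁ (I := maximalIdeal A)
        (Submodule.subtype_injective _) hf (LinearMap.exact_subtype_ker_map f))
      · exact le_trans (by exact_mod_cast Nat.sub_le n q) (le_depth_free hd r)
      · refine le_trans ?_ (add_le_add h le_rfl)
        norm_cast
        omega
    · intro h
      refine le_trans (le_min ?_ ?_) (Depth.min_le_idealDepth_X₃ (I := maximalIdeal A)
        (Submodule.subtype_injective _) hf (LinearMap.exact_subtype_ker_map f))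
      · exact le_trans (by exact_mod_cast Nat.sub_le n (q + 1)) (le_depth_free hd r)
      · refine le_trans (le_of_eq ?_) (tsub_le_tsub_right h 1)
        norm_cast

end Groth.Agent.AuslBuchs
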